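import Groth.Agent.KInj.Products

/-!
# Exact countable products and the derived category
-/

set_option autoImplicit false
set_option backward.isDefEq.respectTransparency false
set_option linter.style.haveILetI false

universe t w v u v' u'

open CategoryTheory CategoryTheory.Limits

noncomputable section

namespace Groth.Agent.RFRlimLib

variable {B : Type u} [Category.{v} B] [Abelian B] [HasProductsOfShape ℕ B]

local notation "q" => HomotopyCategory.quotient B (ComplexShape.up ℤ)

/-- A product of complexes is a product in the homotopy category. -/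
def isLimit_quotient {K : ℕ → CochainComplex B ℤ} {c : Fan K} (hc : IsLimit c) :
    IsLimit (Fan.mk ((q).obj c.pt) fun n => (q).map (c.proj n) : Fan fun n => (q).obj (K n)) :=
  Fan.IsLimit.mk _ (fun s => (q).map (Fan.IsLimit.lift hc fun n => ((q).map_surjective (s.proj n)).choose))
    (fun s n => ((q).map_comp _ _).symm.trans
      ((congrArg (q).map (Fan.IsLimit.fac hc _ n)).trans ((q).map_surjective (s.proj n)).choose_spec))
    (fun s m hm => by
      obtain ⟨m, rfl⟩ := (q).map_surjective m
      obtain ⟨H⟩ := KInj.homotopic_zero_of_product hc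
        (m - Fan.IsLimit.lift hc fun n => ((q).map_surjective (s.proj n)).choose) fun n => by
          refine ⟨HomotopyCategory.homotopyOfEq _ _ ?_⟩
          rw [Functor.map_zero, Preadditive.sub_comp, Functor.map_sub, sub_eq_zero, Functor.map_comp]
          exact (hm n).trans ((congrArg (q).map (Fan.IsLimit.fac hc _ n)).trans
            ((q).map_surjective (s.proj n)).choose_spec).symm
      have := HomotopyCategory.eq_of_homotopy _ _ H
      rwa [Functor.map_zero, Functor.map_sub, sub_eq_zero] at this)

/-- A sequence of complexes as a complex of sequences. -/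
def famCx (K : ℕ → CochainComplex B ℤ) : CochainComplex (Discrete ℕ ⥤ B) ℤ where
  X i := Discrete.functor fun n => (K n).X i
  d i j := Discrete.natTrans fun n => (K n.as).d i j
  shape i j h := by ext n; exact (K n.as).shape i j h
  d_comp_d' i j k _ _ := by ext n; exact (K n.as).d_comp_d i j k

/-- A sequence of maps as a map of complexes of sequences. -/
def famMap {K K' : ℕ → CochainComplex B ℤ} (φ : ∀ n, K n ⟶ K' n) : famCx K ⟶ famCx K' where
  f i := Discrete.natTrans fun n => (φ n.as).f i
  comm' i j _ := by ext n; exact (φ n.as).comm i j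

theorem quasiIso_famMap {K K' : ℕ → CochainComplex B ℤ} (φ : ∀ n, K n ⟶ K' n) (h : ∀ n, QuasiIso (φ n)) :
    QuasiIso (famMap φ) := by
  refine ⟨fun i => ?_⟩
  rw [quasiIsoAt_iff_isIso_homologyMap]
  haveI : ∀ n : Discrete ℕ, IsIso ((HomologicalComplex.homologyMap (famMap φ) i).app n) := fun n => by
    haveI := h n.as
    haveI : QuasiIso ((((evaluation (Discrete ℕ) B).obj n).mapHomologicalComplex _).map (famMap φ)) := h n.as
    have hq : QuasiIsoAt ((((evaluation (Discrete ℕ) B).obj n).mapHomologicalComplex _).map (famMap φ)) i :=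
      inferInstance
    rw [quasiIsoAt_iff] at hq
    haveI : IsIso (ShortComplex.homologyMap (((evaluation (Discrete ℕ) B).obj n).mapShortComplex.map
        ((HomologicalComplex.shortComplexFunctor (Discrete ℕ ⥤ B) _ i).map (famMap φ)))) :=
      (ShortComplex.quasiIso_iff _).1 hq
    exact ((MorphismProperty.isomorphisms B).arrow_mk_iso_iff
      (((Functor.mapArrowFunctor _ _).mapIso (ShortComplex.homologyFunctorIso ((evaluation (Discrete ℕ) B).obj n))).app
        (Arrow.mk ((HomologicalComplex.shortComplexFunctor (Discrete ℕ ⥤ B) _ i).map (famMap φ))))).1 this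
  exact NatIso.isIso_of_isIso_app _

/-- The product of a sequence of complexes. -/
def prodCx (K : ℕ → CochainComplex B ℤ) : CochainComplex B ℤ :=
  ((lim : (Discrete ℕ ⥤ B) ⥤ B).mapHomologicalComplex _).obj (famCx K)

/-- The projections. -/
def prodπ (K : ℕ → CochainComplex B ℤ) (n : ℕ) : prodCx K ⟶ K n where
  f i := limit.π (Discrete.functor fun n => (K n).X i) ⟨n⟩
  comm' i j _ := (limMap_π ((famCx K).d i j) ⟨n⟩).symm

/-- The product fan. -/
def prodFan (K : ℕ → CochainComplex B ℤ) : Fan K := Fan.mk (prodCx K) (prodπ K)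

/-- The product fan is a limit. -/
def isLimitProdFan (K : ℕ → CochainComplex B ℤ) : IsLimit (prodFan K) :=
  HomologicalComplex.isLimitOfEval (Discrete.functor K) (prodFan K) fun i =>
    (isLimitMapConeFanMkEquiv (HomologicalComplex.eval B (ComplexShape.up ℤ) i) _ _).symm
      ((limit.isLimit (Discrete.functor fun n => (K n).X i)).ofIsoLimit (Cone.ext (Iso.refl _) fun n =>
        (Category.id_comp _).symm))

variable [(lim : (Discrete ℕ ⥤ B) ⥤ B).PreservesEpimorphisms]

theorem exists_prod_quasiIso {K K' : ℕ → CochainComplex B ℤ} (φ : ∀ n, K n ⟶ K' n) (h : ∀ n, QuasiIso (φ n)) :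
    ∃ Φ : prodCx K ⟶ prodCx K', QuasiIso Φ ∧ ∀ n, Φ ≫ prodπ K' n = prodπ K n ≫ φ n := by
  haveI : (lim : (Discrete ℕ ⥤ B) ⥤ B).Additive := Functor.additive_of_preserves_binary_products _
  haveI := quasiIso_famMap φ h
  haveI : (lim : (Discrete ℕ ⥤ B) ⥤ B).PreservesHomology :=
    Functor.preservesHomology_of_preservesEpis_and_kernels _
  exact ⟨((lim : (Discrete ℕ ⥤ B) ⥤ B).mapHomologicalComplex _).map (famMap φ), inferInstance, fun n => by
    ext i; exact limMap_π ((famMap φ).f i) ⟨n⟩⟩

variable [HasDerivedCategory.{w} B]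

theorem preservesLimit_Qh (K : ℕ → HomotopyCategory B (ComplexShape.up ℤ)) :
    PreservesLimit (Discrete.functor K) (DerivedCategory.Qh (C := B)) := by
  let W := HomotopyCategory.quasiIso B (ComplexShape.up ℤ)
  choose K₀ hK₀ using fun n => HomotopyCategory.quotient_obj_surjective (K n)
  obtain rfl : (fun n => (q).obj (K₀ n)) = K := funext hK₀
  refine preservesLimit_of_preserves_limit_cone (isLimit_quotient (isLimitProdFan K₀)) ?_
  refine (isLimitMapConeFanMkEquiv DerivedCategory.Qh _ _).symm ?_
  refine Nonempty.some ?_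
  have huniq : ∀ {X : HomotopyCategory B (ComplexShape.up ℤ)} (a : DerivedCategory.Qh.obj X ⟶
      DerivedCategory.Qh.obj ((q).obj (prodCx K₀))), (∀ n, a ≫ DerivedCategory.Qh.map ((q).map (prodπ K₀ n)) = 0) →
        a = 0 := by
    intro X a ha
    obtain ⟨φ, hφ⟩ := Localization.exists_rightFraction DerivedCategory.Qh W a
    haveI := Localization.inverts DerivedCategory.Qh W φ.s φ.hs
    have hz : ∀ n, DerivedCategory.Qh.map (φ.f ≫ (q).map (prodπ K₀ n)) = DerivedCategory.Qh.map 0 := fun n => by
      rw [Functor.map_zero, Functor.map_comp,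
        ← MorphismProperty.RightFraction.map_s_comp_map φ DerivedCategory.Qh (Localization.inverts _ W),
        Category.assoc, ← hφ, ha n, comp_zero]
    have hw : ∀ n, ∃ (K' : CochainComplex B ℤ) (s : K₀ n ⟶ K'), QuasiIso s ∧
        (φ.f ≫ (q).map (prodπ K₀ n)) ≫ (q).map s = 0 := fun n => by
      obtain ⟨Z, s, hs, e⟩ := (MorphismProperty.map_eq_iff_postcomp DerivedCategory.Qh W _ _).1 (hz n)
      obtain ⟨K', rfl⟩ := HomotopyCategory.quotient_obj_surjective Z
      obtain ⟨s, rfl⟩ := (q).map_surjective s
      exact ⟨K', s, (HomotopyCategory.quotient_map_mem_quasiIso_iff s).1 hs, e.trans zero_comp⟩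
    choose K' s hs he using hw
    obtain ⟨Φ, hΦ, hΦπ⟩ := exists_prod_quasiIso s hs
    haveI : IsIso (DerivedCategory.Qh.map ((q).map Φ)) :=
      Localization.inverts DerivedCategory.Qh W _ ((HomotopyCategory.quotient_map_mem_quasiIso_iff Φ).2 hΦ)
    have h0 : φ.f ≫ (q).map Φ = 0 := Fan.IsLimit.hom_ext (isLimit_quotient (isLimitProdFan K')) _ _ fun n => by
      refine (Category.assoc _ _ _).trans ?_
      refine (congrArg (φ.f ≫ ·) (((q).map_comp _ _).symm.trans ((congrArg (q).map (hΦπ n)).trans ((q).map_comp _ _)))).trans ?_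
      exact (Category.assoc _ _ _).symm.trans ((he n).trans zero_comp.symm)
    have hf : DerivedCategory.Qh.map φ.f = 0 := by
      rw [← cancel_mono (DerivedCategory.Qh.map ((q).map Φ)), ← Functor.map_comp, h0, Functor.map_zero, zero_comp]
    rw [hφ, ← cancel_epi (DerivedCategory.Qh.map φ.s),
      MorphismProperty.RightFraction.map_s_comp_map φ DerivedCategory.Qh (Localization.inverts _ W), hf, comp_zero]
  have hex : ∀ s : Fan (fun n => DerivedCategory.Qh.obj ((q).obj (K₀ n))), ∃ a : s.pt ⟶
      DerivedCategory.Qh.obj ((q).obj (prodCx K₀)), ∀ n, a ≫ DerivedCategory.Qh.map ((q).map (prodπ K₀ n)) = s.proj n := by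
    intro s
    haveI : (DerivedCategory.Qh (C := B)).EssSurj := Localization.essSurj _ W
    let e := DerivedCategory.Qh.objObjPreimageIso s.pt
    let X := DerivedCategory.Qh.objPreimage s.pt
    have hw : ∀ n, ∃ (K' : CochainComplex B ℤ) (g : X ⟶ (q).obj K') (w : K₀ n ⟶ K'), QuasiIso w ∧
        (e.hom ≫ s.proj n) ≫ DerivedCategory.Qh.map ((q).map w) = DerivedCategory.Qh.map g := fun n => by
      obtain ⟨φ, hφ⟩ := Localization.exists_leftFraction DerivedCategory.Qh W (e.hom ≫ s.proj n)
      obtain @⟨Z, f, w, hw⟩ := φ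
      obtain ⟨K', rfl⟩ := HomotopyCategory.quotient_obj_surjective Z
      obtain ⟨w, rfl⟩ := (q).map_surjective w
      exact ⟨K', f, w, (HomotopyCategory.quotient_map_mem_quasiIso_iff w).1 hw, by
        rw [hφ, MorphismProperty.LeftFraction.map_comp_map_s]⟩
    choose K' g w hwq he using hw
    obtain ⟨Φ, hΦ, hΦπ⟩ := exists_prod_quasiIso w hwq
    haveI : IsIso (DerivedCategory.Qh.map ((q).map Φ)) :=
      Localization.inverts DerivedCategory.Qh W _ ((HomotopyCategory.quotient_map_mem_quasiIso_iff Φ).2 hΦ)
    let G : X ⟶ (q).obj (prodCx K') := Fan.IsLimit.lift (isLimit_quotient (isLimitProdFan K')) g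
    refine ⟨e.inv ≫ DerivedCategory.Qh.map G ≫ inv (DerivedCategory.Qh.map ((q).map Φ)), fun n => ?_⟩
    haveI : IsIso (DerivedCategory.Qh.map ((q).map (w n))) :=
      Localization.inverts DerivedCategory.Qh W _ ((HomotopyCategory.quotient_map_mem_quasiIso_iff _).2 (hwq n))
    rw [← cancel_mono (DerivedCategory.Qh.map ((q).map (w n))), ← cancel_epi e.hom]
    simp only [Category.assoc, Iso.hom_inv_id_assoc]
    refine Eq.trans ?_ ((he n).symm.trans (Category.assoc _ _ _))
    rw [← Functor.map_comp DerivedCategory.Qh ((q).map (prodπ K₀ n)), ← Functor.map_comp (q), ← hΦπ n, Functor.map_comp (q),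
      Functor.map_comp DerivedCategory.Qh, IsIso.inv_hom_id_assoc, ← Functor.map_comp]
    exact congrArg DerivedCategory.Qh.map (Fan.IsLimit.fac (isLimit_quotient (isLimitProdFan K')) g n)
  choose a ha using hex
  refine ⟨Fan.IsLimit.mk _ a ha fun s m hm => ?_⟩
  haveI : (DerivedCategory.Qh (C := B)).EssSurj := Localization.essSurj _ W
  rw [← cancel_epi (DerivedCategory.Qh.objObjPreimageIso s.pt).hom, ← sub_eq_zero]
  refine huniq _ fun n => ?_
  rw [← Preadditive.comp_sub, Category.assoc, Preadditive.sub_comp, ha]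
  exact (congrArg (fun z => _ ≫ (z - s.proj n)) (hm n)).trans (by rw [sub_self, comp_zero])

end Groth.Agent.RFRlimLib
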