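import Groth.Prelude.Def_DCoh2
import Groth.Agent.RFRlimLib.Products

/-!
# Right derived functors and derived limits of sequences
-/

set_option autoImplicit false
set_option backward.isDefEq.respectTransparency false
set_option linter.style.haveILetI false

universe t w w' v u v' u'

open CategoryTheory CategoryTheory.Limits CategoryTheory.Pretriangulated

noncomputable section

namespace Groth.Agent.RFRlimLib

variable {A : Type u} [Category.{v} A] [Abelian A] {B : Type u'} [Category.{v'} B] [Abelian B]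
  [HasProductsOfShape ℕ A] [HasProductsOfShape ℕ B]
  (F : A ⥤ B) [F.Additive] [PreservesLimitsOfShape (Discrete ℕ) F]

theorem preservesLimit_mapHomotopyCategory (K : ℕ → HomotopyCategory A (ComplexShape.up ℤ)) :
    PreservesLimit (Discrete.functor K) (F.mapHomotopyCategory (ComplexShape.up ℤ)) := by
  choose K₀ hK₀ using fun n => HomotopyCategory.quotient_obj_surjective (K n)
  obtain rfl : (fun n => (HomotopyCategory.quotient A (ComplexShape.up ℤ)).obj (K₀ n)) = K := funext hK₀
  refine preservesLimit_of_preserves_limit_cone (isLimit_quotient (isLimitProdFan K₀)) ?_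
  refine (isLimitMapConeFanMkEquiv (F.mapHomotopyCategory (ComplexShape.up ℤ)) _ _).symm ?_
  let F' := F.mapHomologicalComplex (ComplexShape.up ℤ)
  have h : IsLimit (Fan.mk (F'.obj (prodCx K₀)) fun n => F'.map (prodπ K₀ n) :
      Fan fun n => F'.obj (K₀ n)) :=
    HomologicalComplex.isLimitOfEval (Discrete.functor fun n => F'.obj (K₀ n)) _ fun i =>
      (isLimitMapConeFanMkEquiv (HomologicalComplex.eval B (ComplexShape.up ℤ) i) _ _).symm
        (isLimitFanMkObjOfIsLimit F _ _ ((limit.isLimit (Discrete.functor fun n => (K₀ n).X i)).ofIsoLimit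
          (Cone.ext (Iso.refl _) fun n => (Category.id_comp _).symm)))
  exact isLimit_quotient h

variable [HasDerivedCategory.{w} A] [HasDerivedCategory.{w'} B] [IsGrothendieckAbelian.{v} A]
  [(lim : (Discrete ℕ ⥤ B) ⥤ B).PreservesEpimorphisms]
  [(F.mapHomotopyCategory (ComplexShape.up ℤ) ⋙ DerivedCategory.Qh).HasRightDerivedFunctor
    (HomotopyCategory.quasiIso A (ComplexShape.up ℤ))]

theorem isRlim_rightDerived (K : ℕ → DerivedCategory A) (t : ∀ n, K (n + 1) ⟶ K n) (L : DerivedCategory A)
    [HasProduct K] [HasProduct fun n => ((F.mapHomotopyCategory (ComplexShape.up ℤ) ⋙ DerivedCategory.Qh).totalRightDerived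
      DerivedCategory.Qh (HomotopyCategory.quasiIso A (ComplexShape.up ℤ))).obj (K n)]
    (hL : DCoh.IsRlim K t L) :
    DCoh.IsRlim
      (fun n => ((F.mapHomotopyCategory (ComplexShape.up ℤ) ⋙ DerivedCategory.Qh).totalRightDerived
        DerivedCategory.Qh (HomotopyCategory.quasiIso A (ComplexShape.up ℤ))).obj (K n))
      (fun n => ((F.mapHomotopyCategory (ComplexShape.up ℤ) ⋙ DerivedCategory.Qh).totalRightDerived
        DerivedCategory.Qh (HomotopyCategory.quasiIso A (ComplexShape.up ℤ))).map (t n))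
      (((F.mapHomotopyCategory (ComplexShape.up ℤ) ⋙ DerivedCategory.Qh).totalRightDerived
        DerivedCategory.Qh (HomotopyCategory.quasiIso A (ComplexShape.up ℤ))).obj L) := by
  let hres := KInj.hres_of_isGrothendieckAbelian A
  let Φ := F.mapHomotopyCategory (ComplexShape.up ℤ) ⋙ DerivedCategory.Qh
  let adj := KInj.qhAdjunction hres
  let R := KInj.rightAdj hres
  letI : R.CommShift ℤ := adj.rightAdjointCommShift ℤ
  haveI : adj.CommShift ℤ := adj.commShift_of_leftAdjoint ℤ
  haveI : R.IsTriangulated := adj.isTriangulated_rightAdjoint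
  let G := R ⋙ F.mapHomotopyCategory (ComplexShape.up ℤ) ⋙ DerivedCategory.Qh
  let RF := Φ.totalRightDerived DerivedCategory.Qh (HomotopyCategory.quasiIso A (ComplexShape.up ℤ))
  let e : RF ≅ G := Functor.rightDerivedUnique RF (R ⋙ Φ)
    (Φ.totalRightDerivedUnit DerivedCategory.Qh (HomotopyCategory.quasiIso A (ComplexShape.up ℤ)))
    (KInj.derivedUnit hres Φ) (HomotopyCategory.quasiIso A (ComplexShape.up ℤ))
  haveI : PreservesLimit (Discrete.functor K) R := by
    haveI : PreservesLimitsOfSize.{0, 0} R := adj.rightAdjoint_preservesLimits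
    infer_instance
  haveI : PreservesLimit (Discrete.functor K) G := by
    haveI : PreservesLimit (Discrete.functor K ⋙ R) (F.mapHomotopyCategory (ComplexShape.up ℤ)) := by
      haveI := preservesLimit_mapHomotopyCategory F fun n => R.obj (K n)
      exact preservesLimit_of_iso_diagram _ (Discrete.natIso fun n => Iso.refl _ :
        Discrete.functor (fun n => R.obj (K n)) ≅ Discrete.functor K ⋙ R)
    haveI : PreservesLimit ((Discrete.functor K ⋙ R) ⋙ F.mapHomotopyCategory (ComplexShape.up ℤ))
        (DerivedCategory.Qh (C := B)) := by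
      haveI := preservesLimit_Qh (B := B) fun n => (F.mapHomotopyCategory (ComplexShape.up ℤ)).obj (R.obj (K n))
      exact preservesLimit_of_iso_diagram _ (Discrete.natIso fun n => Iso.refl _ :
        Discrete.functor (fun n => (F.mapHomotopyCategory (ComplexShape.up ℤ)).obj (R.obj (K n))) ≅
          (Discrete.functor K ⋙ R) ⋙ F.mapHomotopyCategory (ComplexShape.up ℤ))
    infer_instance
  haveI : PreservesLimit (Discrete.functor K) RF := preservesLimit_of_natIso _ e.symm
  haveI : RF.Additive := Functor.additive_of_iso e.symm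
  obtain ⟨a, c, h⟩ := hL
  have hG := G.map_distinguished _ h
  let P := PreservesProduct.iso RF K
  refine ⟨RF.map a ≫ P.hom, P.inv ≫ e.hom.app (∏ᶜ K) ≫ G.map c ≫ (G.commShiftIso (1 : ℤ)).hom.app L ≫
    (e.inv.app L)⟦(1 : ℤ)⟧', isomorphic_distinguished _ hG _
    (Triangle.isoMk _ _ (e.app L) (P.symm ≪≫ e.app (∏ᶜ K)) (P.symm ≪≫ e.app (∏ᶜ K)) ?_ ?_ ?_)⟩
  · show (RF.map a ≫ P.hom) ≫ P.inv ≫ e.hom.app _ = e.hom.app _ ≫ G.map a
    rw [Category.assoc, Iso.hom_inv_id_assoc]
    exact e.hom.naturality a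
  · show Pi.lift _ ≫ P.inv ≫ e.hom.app _ = (P.inv ≫ e.hom.app _) ≫ G.map _
    rw [Category.assoc, ← e.hom.naturality, ← Category.assoc, ← Category.assoc P.inv]
    refine congrArg (· ≫ e.hom.app (∏ᶜ K)) ?_
    show Pi.lift _ ≫ P.inv = P.inv ≫ RF.map (Pi.lift fun n => Pi.π K n - Pi.π K (n + 1) ≫ t n)
    rw [Iso.comp_inv_eq, Category.assoc, PreservesProduct.iso_hom, map_lift_piComparison]
    refine Pi.hom_ext _ _ fun n => ?_
    rw [Category.assoc, limit.lift_π, limit.lift_π, Iso.eq_inv_comp, PreservesProduct.iso_hom]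
    simp only [Fan.mk_π_app, Functor.map_sub, Functor.map_comp, Preadditive.comp_sub]
    rw [← piComparison_comp_π RF K n, ← piComparison_comp_π RF K (n + 1), Category.assoc]
  · show (P.inv ≫ e.hom.app _ ≫ G.map c ≫ (G.commShiftIso (1 : ℤ)).hom.app L ≫ (e.inv.app L)⟦(1 : ℤ)⟧') ≫
      (e.hom.app L)⟦(1 : ℤ)⟧' = (P.inv ≫ e.hom.app _) ≫ G.map c ≫ (G.commShiftIso (1 : ℤ)).hom.app L
    simp only [Category.assoc, ← Functor.map_comp, Iso.inv_hom_id_app]
    refine congrArg (P.inv ≫ ·) (congrArg (e.hom.app _ ≫ ·) (congrArg (G.map c ≫ ·) ?_))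
    rw [CategoryTheory.Functor.map_id]
    exact Category.comp_id _

end Groth.Agent.RFRlimLib
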